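import Cfsg.Agent.Signalizer.EBal.GenA.Frattini
import Cfsg.Agent.Fusion.Basic
import Cfsg.Agent.FusionSys.SaturationCriterion

/-!
The automorphism group of the generated subsystem at a fully normalized subgroup of the class.
-/

set_option autoImplicit false
set_option linter.style.haveILetI false
set_option linter.unusedSectionVars false

namespace Cfsg.Agent.Signalizer.EBal.GenA

open Cfsg Cfsg.FusionSystem Cfsg.Agent.FusionSys Cfsg.Agent.H91.CentFocal
open Cfsg.Agent.H48 (IsSylowIn)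
open Cfsg.Agent.H89 (mem_of_stronglyClosed card_lt_card_of_lt)
open Cfsg.Agent.H89.Gen (InH)
open Cfsg.FusionSystem (centralizerIn normalizerIn)
open scoped commutatorElement

universe u

variable {Ω : Type u} [Group Ω] {S T : Subgroup Ω} {p : ℕ} {F : FusionSystem S} {H : ∀ Q : Subgroup Ω, Subgroup (MulAut Q)}

namespace Setup

variable (hs : Setup p F T H)
include hs

/-- `Aut_{T₀}(Q)`. -/
def uAut (_hs : Setup p F T H) (Q : Subgroup Ω) : Subgroup (MulAut Q) :=
  autInducedBy (T) Q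

/-- The candidate automorphism group. -/
noncomputable def bAut (Q : Subgroup Ω) : Subgroup (MulAut Q) :=
  (pResidual p (H Q)).map (H Q).subtype ⊔ hs.uAut Q

variable [Finite S] [Fact p.Prime] {Q : Subgroup Ω}

theorem uAut_le_S : hs.uAut Q ≤ autInducedBy S Q := autInducedBy_mono hs.T_le

theorem uAut_le_autI (hQ : InH F T Q) : hs.uAut Q ≤ H Q :=
  hs.inner Q hQ

theorem uAut_le_bAut : hs.uAut Q ≤ hs.bAut Q := le_sup_right

theorem bAut_le_autI (hQ : InH F T Q) : hs.bAut Q ≤ H Q :=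
  sup_le (Subgroup.map_subtype_le _) (hs.uAut_le_autI hQ)

/-- Elements of order prime to `p` lie in the candidate. -/
theorem mem_bAut_of_coprime {α : MulAut Q} (hα : α ∈ H Q)
    (hco : (orderOf α).Coprime p) : α ∈ hs.bAut Q := by
  refine Subgroup.mem_sup_left ⟨⟨α, hα⟩, Cores.mem_pResidual_of_coprime ?_, rfl⟩
  rwa [Subgroup.orderOf_mk]

theorem bAut_le_D0 (hQ : InH F T Q) : hs.bAut Q ≤ hs.D0.autGroup Q := by
  refine sup_le ?_ (autInducedBy_le_autGroup hs.D0 hQ.1)
  rw [Subgroup.map_le_iff_le_comap]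
  refine Cores.pResidual_le fun α hα => ?_
  exact (mem_autGroup_iff hQ.1).2 (hs.isMap_D0.2 (InD.gen hQ
    (by rwa [Subgroup.coe_subtype, Subgroup.orderOf_coe])
    α.2))

theorem conj_uAut {w u : MulAut Q} (hw : w ∈ autInducedBy S Q)
    (hu : u ∈ hs.uAut Q) : w * u * w⁻¹ ∈ hs.uAut Q := by
  obtain ⟨s, hsS, hsn, rfl⟩ := mem_autInducedBy.1 hw
  obtain ⟨t, htT, htn, rfl⟩ := mem_autInducedBy.1 hu
  refine mem_autInducedBy.2 ⟨s * t * s⁻¹, hs.T_conj hsS htT,
    mul_mem (mul_mem hsn htn) (inv_mem hsn), ?_⟩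
  show conjAutHom Q ⟨s, hsn⟩ * conjAutHom Q ⟨t, htn⟩ * (conjAutHom Q ⟨s, hsn⟩)⁻¹ = _
  rw [← map_inv, ← map_mul, ← map_mul]
  rfl

variable (hQ : InH F T Q) (hQn : F.IsFullyNormalized Q)
include hQ hQn

theorem conj_bAut_H {g b : MulAut Q} (hg : g ∈ H Q) (hb : b ∈ hs.bAut Q) :
    g * b * g⁻¹ ∈ hs.bAut Q := by
  haveI := hs.finite_T
  haveI := finite_mulAut_of_le hQn.1
  set A := H Q with hA
  have hsy := hs.isSylowIn_autI hQ hQn
  suffices htop : (Subgroup.normalizer (hs.bAut Q : Set (MulAut Q))).subgroupOf A = ⊤ from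
    (Subgroup.mem_normalizer_iff.1 (htop.ge (Subgroup.mem_top (⟨g, hg⟩ : A))) b).1 hb
  refine top_le_iff.1 ((Fusion.sylow_sup_pResidual hsy.toSylow).ge.trans (sup_le (fun w hw => ?_)
    fun w hw => Subgroup.le_normalizer (Subgroup.mem_sup_left ⟨w, hw, rfl⟩)))
  rw [hsy.coe_toSylow] at hw
  refine Subgroup.mem_subgroupOf.2 (H48.mem_normalizer_of_cj_eq (H48.cj_eq_self_of_le
    (H48.cj_le.2 fun x hx => ?_)))
  have hle : hs.bAut Q ≤ (hs.bAut Q).comap (MulAut.conj (w : MulAut Q)).toMonoidHom := by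
    refine sup_le ?_ fun u hu => Subgroup.mem_sup_right (hs.conj_uAut hw.2 hu)
    rintro _ ⟨o, ho, rfl⟩
    exact Subgroup.mem_sup_left ⟨w * o * w⁻¹, Subgroup.Normal.conj_mem inferInstance o ho w, rfl⟩
  exact hle hx

/-- The candidate is normalized by all automorphisms in `F`. -/
theorem conj_bAut {g b : MulAut Q} (hg : g ∈ F.autGroup Q) (hb : b ∈ hs.bAut Q) :
    g * b * g⁻¹ ∈ hs.bAut Q := by
  haveI := hs.finite_T
  have hQS := hQn.1
  haveI := finite_mulAut_of_le hQS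
  haveI := finite_of_le hQS
  obtain ⟨m, n, hm, hgmn, X, hRX, hX, ψ, hψ, hψe⟩ := H90.aut_decomp
    (isFullyAutomized_of_isFullyNormalized hs.hS hs.hF hQn)
    (receptive_of_isFullyNormalized hs.hS hs.hF hQn) ((H Q).subgroupOf (F.autGroup Q))
    (hs.autI_normal hQ) ⟨g, hg⟩
  have hNX : normalizerIn T Q ≤ X := fun t ht => by
    have htS : t ∈ normalizerIn S Q := ⟨hs.T_le ht.1, ht.2⟩
    have hne : H90.normAut Q t ht.2 = conjAut ht.2 := MulEquiv.ext fun _ => Subtype.ext rfl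
    refine hX t htS.1 ht.2 (by rw [hne]; exact conjAut_mem_autGroup F hQS htS) ?_
    show H90.normAut Q t ht.2 ∈ H Q
    rw [hne]
    exact hs.inner Q hQ (mem_autInducedBy.2 ⟨t, ht.1, ht.2, rfl⟩)
  have hm' : IsMap F X (homFun ψ) := isMap_of_mem hψ
  have hne : ∀ x ∈ Q, homFun ψ x = autMap (n : MulAut Q) x := fun x hx => by
    rw [homFun_mem ψ (hRX hx), autMap_apply _ hx]
    exact hψe ⟨x, hx⟩
  have hle : hs.bAut Q ≤ (hs.bAut Q).comap (MulAut.conj (n : MulAut Q)).toMonoidHom := by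
    refine sup_le ?_ fun u hu => Subgroup.mem_sup_right ?_
    · rw [Subgroup.map_le_iff_le_comap]
      refine Cores.pResidual_le fun α hα => ?_
      exact hs.mem_bAut_of_coprime (hs.conj_mem hQ n.2 α.2) (by
        show (orderOf ((MulAut.conj (n : MulAut Q)) (α : MulAut Q))).Coprime p
        rwa [MulEquiv.orderOf_eq, Subgroup.orderOf_coe])
    · obtain ⟨t, htT, htn, rfl⟩ := mem_autInducedBy.1 hu
      have htX : t ∈ X := hNX ⟨htT, htn⟩
      have hni : IsIso F Q Q (autMap (n : MulAut Q)) := isIso_autMap hQS n.2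
      refine mem_autInducedBy.2 ⟨homFun ψ t, mem_of_stronglyClosed hs.hT hm' htX htT,
        (hni.mem_normalizerIn_of_extends hm' hRX hne htX htn).2, aut_ext fun y hy => ?_⟩
      obtain ⟨x, hx, rfl⟩ := hni.exists_preimage hy
      have hx' : t * x * t⁻¹ ∈ Q := (Subgroup.mem_normalizer_iff.1 htn x).1 hx
      show autMap ((n : MulAut Q) * conjAut htn * (n : MulAut Q)⁻¹) _ = _
      rw [autMap_mul _ _ hy, autMap_mul _ _ (autMap_mem _ hy), S5114.inv_autMap_apply _ hx,
        autMap_conjAut htn hx, autMap_conjAut _ hy, conjMap_apply, conjMap_apply, ← hne _ hx',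
        ← hne x hx, hm'.map_conj htX (hRX hx)]
  have h1 := hs.conj_bAut_H hQ hQn (g := (m : MulAut Q)) hm (hle hb)
  rw [show g = (m : MulAut Q) * (n : MulAut Q) from congrArg Subtype.val hgmn]
  convert h1 using 1
  show _ = (m : MulAut Q) * ((n : MulAut Q) * b * (n : MulAut Q)⁻¹) * (m : MulAut Q)⁻¹
  group

theorem isSylowIn_bAut : IsSylowIn p (hs.uAut Q) (hs.bAut Q) := by
  have hQS := hQn.1
  haveI := hs.finite_T
  haveI := finite_mulAut_of_le hQS
  set A := H Q with hA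
  have hsy := hs.isSylowIn_autI hQ hQn
  set P0 : Sylow p A := hsy.toSylow with hP0
  set U := (hs.uAut Q).subgroupOf A with hU
  set B := pResidual p A ⊔ U with hB
  have hUP : U ≤ (P0 : Subgroup A) := fun x hx => by
    rw [hP0, hsy.coe_toSylow]
    exact ⟨x.2, hs.uAut_le_S hx⟩
  have hfoc : pResidual p A ⊓ (P0 : Subgroup A) ≤ U := by
    intro x hx
    have h2 : x ∈ (P0 : Subgroup A) := hx.2
    rw [hP0, hsy.coe_toSylow] at h2
    exact hs.focal Q hQ hQn ⟨⟨x, hx.1, rfl⟩, (Subgroup.mem_inf.1 (Subgroup.mem_subgroupOf.1 h2)).2⟩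
  haveI : B.Normal := by
    rw [← Subgroup.normalizer_eq_top_iff, ← top_le_iff]
    refine (Fusion.sylow_sup_pResidual P0).ge.trans (sup_le (fun g hg => ?_)
      (le_sup_left.trans Subgroup.le_normalizer))
    refine H48.mem_normalizer_of_cj_eq (H48.cj_eq_self_of_le (H48.cj_le.2 fun b hb => ?_))
    have hle : B ≤ B.comap (MulAut.conj g).toMonoidHom := sup_le
      (fun x hx => Subgroup.mem_sup_left (Subgroup.Normal.conj_mem inferInstance x hx g))
      fun x hx => Subgroup.mem_sup_right (by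
        rw [hP0, hsy.coe_toSylow, Subgroup.mem_subgroupOf] at hg
        exact hs.conj_uAut hg.2 hx)
    exact hle hb
  have hinf : (P0 : Subgroup A) ⊓ B = U := by
    refine le_antisymm (fun x hx => ?_) (le_inf hUP le_sup_right)
    obtain ⟨o, ho, u, hu, rfl⟩ := Subgroup.mem_sup_of_normal_left.1 (Subgroup.mem_inf.1 hx).2
    refine mul_mem (hfoc ⟨ho, ?_⟩) hu
    have := mul_mem (Subgroup.mem_inf.1 hx).1 (inv_mem (hUP hu))
    rwa [mul_inv_cancel_right] at this
  have h := H48.isSylowIn_inf_normal P0 B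
  rw [hinf] at h
  refine ⟨hs.uAut_le_bAut, (isPGroup_autInducedBy hs.hS Q).to_le hs.uAut_le_S, fun hd => h.ndvd ?_⟩
  rw [hB, hU, Subgroup.subgroupOf, Subgroup.relIndex_comap, Subgroup.map_sup,
    Subgroup.map_comap_eq_self ((A.range_subtype).ge.trans' (hs.uAut_le_autI hQ))]
  exact hd

end Setup

end Cfsg.Agent.Signalizer.EBal.GenA
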