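import Cfsg.Agent.Signalizer.EBal.GenA.Setup
import Cfsg.Agent.H48.SylowCore
import Cfsg.Agent.Fusion.PResidual
import Cfsg.Agent.H90.WeaklyNormal

/-!
The Frattini decomposition for the generated subsystem.
-/

set_option autoImplicit false
set_option linter.style.haveILetI false
set_option linter.unusedSectionVars false

namespace Cfsg.Agent.Signalizer.EBal.GenA

open Cfsg Cfsg.FusionSystem Cfsg.Agent.FusionSys Cfsg.Agent.H91.CentFocal
open Cfsg.Agent.H91.CentSE (Ctr)
open Cfsg.Agent.H89.Lift (tw tw_apply)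
open Cfsg.Agent.H48 (IsSylowIn)
open Cfsg.Agent.H89 (mem_of_stronglyClosed card_lt_card_of_lt)
open Cfsg.Agent.H89.Gen (InH)
open Cfsg.FusionSystem (centralizerIn normalizerIn)

universe u

variable {Ω : Type u} [Group Ω] {S T : Subgroup Ω} {p : ℕ} {F : FusionSystem S} {H : ∀ Q : Subgroup Ω, Subgroup (MulAut Q)}

/-- `f` is a map of the generated system followed by an automorphism of `T`. -/
def FR (p : ℕ) (F : FusionSystem S) (T : Subgroup Ω) (H : ∀ Q : Subgroup Ω, Subgroup (MulAut Q))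
    (P : Subgroup Ω) (f : Ω → Ω) : Prop :=
  ∃ a ∈ F.autGroup T, ∃ d, InD p F T H P d ∧ ∀ x ∈ P, f x = autMap a (d x)

namespace Setup

variable (hs : Setup p F T H)
include hs

theorem FR_congr {P : Subgroup Ω} {f g : Ω → Ω} (h : FR p F T H P f)
    (he : ∀ x ∈ P, g x = f x) : FR p F T H P g := by
  obtain ⟨a, ha, d, hd, hfe⟩ := h
  exact ⟨a, ha, d, hd, fun x hx => (he x hx).trans (hfe x hx)⟩

theorem FR_mono {P R : Subgroup Ω} {f : Ω → Ω} (h : FR p F T H R f) (hle : P ≤ R) :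
    FR p F T H P f := by
  obtain ⟨a, ha, d, hd, hfe⟩ := h
  exact ⟨a, ha, d, hd.mono hle, fun x hx => hfe x (hle hx)⟩

variable [Finite S] [Fact p.Prime]

theorem FR_comp {P Q : Subgroup Ω} {f g : Ω → Ω} (hf : FR p F T H P f)
    (hg : FR p F T H Q g) (hm : ∀ x ∈ P, f x ∈ Q) : FR p F T H P (g ∘ f) := by
  obtain ⟨a, ha, d, hd, hfe⟩ := hf
  obtain ⟨b, hb, e, he, hge⟩ := hg
  have hQT := (hs.ind_of_inD he).le
  have hb' := hs.isMap_aut (inv_mem ha)
  have hdT : ∀ x ∈ P, d x ∈ T := fun x hx => (hs.ind_of_inD hd).mem_S hx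
  refine ⟨b * a, mul_mem hb ha, tw a⁻¹ e ∘ d, hd.comp (hs.inD_tw (inv_mem ha) he) fun x hx => ?_,
    fun x hx => ?_⟩
  · refine (hb'.mono hQT).mem_imgSub.2 ⟨f x, hm x hx, ?_⟩
    rw [hfe x hx, S5114.inv_autMap_apply a (hdT x hx)]
  · have h1 : tw a⁻¹ e (d x) = autMap a⁻¹ (e (autMap a (d x))) := by
      show autMap a⁻¹ (e (autMap a⁻¹⁻¹ (d x))) = _
      rw [inv_inv]
    have h2 : e (autMap a (d x)) ∈ T := (hs.ind_of_inD he).mem_S (hfe x hx ▸ hm x hx)
    rw [Function.comp_apply, Function.comp_apply, h1, hge _ (hm x hx), hfe x hx,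
      autMap_mul _ _ (autMap_mem _ h2), autMap_inv_apply a h2]

theorem FR_inv {P Q : Subgroup Ω} {f g : Ω → Ω} (hf : IsIso F P Q f)
    (hgf : ∀ x ∈ P, g (f x) = x) (h : FR p F T H P f) : FR p F T H Q g := by
  obtain ⟨a, ha, d, hd, hfe⟩ := h
  have hdI := (hs.isMap_F (hs.ind_of_inD hd)).isIso
  obtain ⟨d', hd', hd'1, -⟩ := hdI.exists_symm
  have hd'D := hs.inD_inv hdI hd'1 hd
  have hb := hs.isMap_aut ha
  have hdle : imgSub d P ≤ T := (hs.ind_of_inD hd'D).le
  have hQ : Q = imgSub (autMap a) (imgSub d P) := by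
    rw [hf.eq_imgSub, ← (hs.isMap_F (hs.ind_of_inD hd)).imgSub_comp]
    exact imgSub_congr hfe
  refine ⟨a⁻¹, inv_mem ha, tw a d', hQ ▸ hs.inD_tw ha hd'D, fun y hy => ?_⟩
  obtain ⟨x, hx, rfl⟩ := hf.exists_preimage hy
  have hdx : d x ∈ T := (hs.ind_of_inD hd).mem_S hx
  rw [hgf x hx, hfe x hx, tw_apply a d' hdx, hd'1 x hx, S5114.inv_autMap_apply a ((hs.ind_of_inD hd).le hx)]

theorem FR_conj {P : Subgroup Ω} (hP : P ≤ T) {s : Ω} (hs' : s ∈ S) :
    FR p F T H P (conjMap s) := by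
  haveI := hs.finite_T
  obtain ⟨a, ha, hae⟩ := (isIso_of_mapsTo (isMap_conj F hs.T_le hs')
    fun t ht => hs.T_conj hs' ht).exists_aut
  exact ⟨a, ha, id, fun E' _ => isMap_id E' hP, fun x hx => (hae x (hP hx)).symm⟩

theorem FR_of_inD {P : Subgroup Ω} {d : Ω → Ω} (hd : InD p F T H P d) :
    FR p F T H P d :=
  ⟨1, one_mem _, d, hd, fun _ hx => (FusionSys.autMap_one ((hs.ind_of_inD hd).mem_S hx)).symm⟩

theorem conj_mem {Q : Subgroup Ω} (hQ : InH F T Q) {γ α : MulAut Q} (hγ : γ ∈ F.autGroup Q)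
    (hα : α ∈ H Q) : γ * α * γ⁻¹ ∈ H Q := by
  have hi := isIso_autMap (hQ.1.trans hs.T_le) hγ
  have h1 : hi.autEquiv α = γ * α * γ⁻¹ := aut_ext fun y hy => by
    obtain ⟨z, hz, rfl⟩ := hi.exists_preimage hy
    rw [hi.autMap_autEquiv α hz, autMap_mul _ _ (autMap_mem _ hz), S5114.inv_autMap_apply _ hz,
      autMap_mul _ _ hz]
  exact h1 ▸ hs.transport Q Q _ hQ hi α hα

theorem autI_normal {Q : Subgroup Ω} (hQ : InH F T Q) :
    ((H Q).subgroupOf (F.autGroup Q)).Normal :=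
  ⟨fun _ hn g => hs.conj_mem hQ g.2 hn⟩

/-- `Aut_S(Q)` cuts a Sylow subgroup out of `Aut_I(Q)`. -/
theorem isSylowIn_autI {Q : Subgroup Ω} (hQ : InH F T Q) (hQn : F.IsFullyNormalized Q) :
    IsSylowIn p (H Q ⊓ autInducedBy S Q) (H Q) := by
  haveI := finite_autGroup F hQn.1
  obtain ⟨-, Sy, hSy⟩ := isFullyAutomized_of_isFullyNormalized hs.hS hs.hF hQn
  haveI := hs.autI_normal hQ
  have h := H48.isSylowIn_inf_normal Sy ((H Q).subgroupOf (F.autGroup Q))
  refine ⟨inf_le_left, (isPGroup_autInducedBy hs.hS Q).to_le inf_le_right, fun hd => h.ndvd ?_⟩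
  have h1 : (Sy : Subgroup (F.autGroup Q)) ⊓ (H Q).subgroupOf (F.autGroup Q) =
      (H Q ⊓ autInducedBy S Q).comap (F.autGroup Q).subtype := by
    rw [hSy, inf_comm, Subgroup.comap_inf]
    rfl
  rw [h1, Subgroup.relIndex_comap, Subgroup.map_subgroupOf_eq_of_le (hs.le_autF Q hQ)]
  exact hd

/-- A fully normalized subgroup outside the class is centralized by further elements of `T`. -/
theorem exists_extra {Q : Subgroup Ω} (hQ : Q ≤ T) (hQn : F.IsFullyNormalized Q)
    (hnc : ¬ InH F T Q) : ∃ x ∈ centralizerIn T Q, x ∉ Q := by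
  obtain ⟨R, hR, c, hc, hcR⟩ : ∃ R, F.IsConj Q R ∧ ∃ c ∈ centralizerIn T R, c ∉ R := by
    by_contra hno
    push Not at hno
    exact hnc ⟨hQ, fun R hR c hc => hno R hR c hc⟩
  obtain ⟨g, hg, hgi, -⟩ := exists_map_to_fullyNormalized hs.hS hs.hF hQn (isConj_symm hR)
  have hRS : R ≤ S := hgi.source_le
  obtain ⟨hcT, hcc⟩ := FusionSys.mem_centralizerIn.1 hc
  have hcS : c ∈ centralizerIn S R := FusionSys.mem_centralizerIn.2 ⟨hs.T_le hcT, hcc⟩
  have hcN : c ∈ normalizerIn S R := centralizerIn_le_normalizerIn hcS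
  have hRN : R ≤ normalizerIn S R := le_normalizerIn_self hRS
  have hle : Subgroup.zpowers c ≤ T := Subgroup.zpowers_le.2 hcT
  refine ⟨g c, FusionSys.mem_centralizerIn.2 ⟨(stronglyClosed_iff.1 hs.hT).2 _ g hle
      (hg.mono (Subgroup.zpowers_le.2 hcN)) c (Subgroup.mem_zpowers c),
    (FusionSys.mem_centralizerIn.1
      (hgi.mem_centralizerIn_of_extends hg hRN (fun _ _ => rfl) hcN hcS)).2⟩, fun h => ?_⟩
  obtain ⟨r, hr, hre⟩ := hgi.exists_preimage h
  exact hcR (hg.injOn (hRN hr) hcN hre ▸ hr)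

/-- The Frattini decomposition. -/
theorem frattini {P : Subgroup Ω} {f : Ω → Ω} (hP : P ≤ T) (hf : IsMap F P f) :
    FR p F T H P f := by
  induction hn : Nat.card (T) - Nat.card P using Nat.strong_induction_on
    generalizing P f with
  | _ n ih =>
  haveI := hs.finite_T
  have hT0p : IsPGroup p (T) := hs.hS.to_le hs.T_le
  rcases hP.eq_or_lt with hPe | hPlt
  · subst hPe
    obtain ⟨a, ha, hae⟩ := (isIso_of_mapsTo hf fun x hx =>
      (stronglyClosed_iff.1 hs.hT).2 _ f le_rfl hf x hx).exists_aut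
    exact ⟨a, ha, id, fun E' _ => isMap_id E' le_rfl, fun x hx => (hae x hx).symm⟩
  have hbig : ∀ {R : Subgroup Ω} {g : Ω → Ω}, Nat.card P < Nat.card R → R ≤ T →
      IsMap F R g → FR p F T H R g := fun {R g} hlt hR hg => by
    have := Subgroup.card_le_of_le hR
    exact ih _ (by omega) hR hg rfl
  obtain ⟨Q, hQc, hQn⟩ := exists_isFullyNormalized F (hP.trans hs.T_le)
  obtain ⟨u, hu⟩ := isConj_iff.1 hQc
  have hQT : Q ≤ T := target_le_of_closed hs.hT hP hu
  have hQlt : Q < T := lt_of_le_of_ne hQT fun h => hPlt.ne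
    (Subgroup.eq_of_le_of_card_ge hP (by rw [hu.card_eq, h]))
  have hgood : ∀ {R : Subgroup Ω}, F.IsConj R Q → R ≤ T →
      ∃ g, IsIso F R Q g ∧ FR p F T H R g := fun {R} hR hRT => by
    obtain ⟨g, hg, hgi, -⟩ := exists_map_to_fullyNormalized hs.hS hs.hF hQn hR
    have hRlt : R < T := lt_of_le_of_ne hRT fun h => hQlt.ne
      (Subgroup.eq_of_le_of_card_ge hQT (by rw [← hgi.card_eq, h]))
    have hlt : R < normalizerIn (T) R := lt_inf_normalizer_of_lt hT0p hRlt
    haveI := finite_of_le (S := T) (P := normalizerIn (T) R)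
      normalizerIn_le
    refine ⟨g, hgi, hs.FR_mono (hbig ?_ normalizerIn_le
      (hg.mono fun x hx => ⟨hs.T_le hx.1, hx.2⟩)) hlt.le⟩
    rw [show Nat.card P = Nat.card R from hu.card_eq.trans hgi.card_eq.symm]
    exact card_lt_card_of_lt hlt
  have hfi := hf.isIso
  obtain ⟨g, hg, hgFR⟩ := hgood hQc hP
  obtain ⟨g', hg', hg'FR⟩ := hgood (isConj_trans (isConj_symm hfi.isConj) hQc)
    (target_le_of_closed hs.hT hP hfi)
  obtain ⟨k, hk, hk1, -⟩ := hg.exists_symm
  obtain ⟨k', hk', hk'1, -⟩ := hg'.exists_symm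
  obtain ⟨γ, hγ, hγe⟩ := ((hk.comp hfi).comp hg').exists_aut
  suffices hγFR : FR p F T H Q (autMap γ) by
    refine hs.FR_congr (hs.FR_comp (hs.FR_comp hgFR hγFR fun x hx => hg.mem hx)
      (hs.FR_inv hg' hk'1 hg'FR) fun x hx => ?_) fun x hx => ?_
    · exact autMap_mem γ (hg.mem hx)
    · rw [Function.comp_apply, Function.comp_apply, hγe _ (hg.mem hx), Function.comp_apply,
        Function.comp_apply, hk1 x hx, hk'1 _ (hfi.mem hx)]
  have hQS := hQn.1
  haveI := finite_of_le hQS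
  haveI := finite_autGroup F hQS
  have hcardQ : Nat.card P = Nat.card Q := hu.card_eq
  by_cases hH : InH F T Q
  · set A := H Q with hA
    obtain ⟨m, n', hm, hγmn, X, hRX, hX, ψ, hψ, hψe⟩ := H90.aut_decomp
      (isFullyAutomized_of_isFullyNormalized hs.hS hs.hF hQn)
      (receptive_of_isFullyNormalized hs.hS hs.hF hQn) (A.subgroupOf (F.autGroup Q))
      (hs.autI_normal hH) ⟨γ, hγ⟩
    -- the extending part
    set R := normalizerIn (T) Q with hR
    have hRX' : R ≤ X := fun g hg => by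
      have hgS : g ∈ normalizerIn S Q := ⟨hs.T_le hg.1, hg.2⟩
      have hne : H90.normAut Q g hg.2 = conjAut hg.2 := MulEquiv.ext fun _ => Subtype.ext rfl
      refine hX g hgS.1 hg.2 (by rw [hne]; exact conjAut_mem_autGroup F hQS hgS) ?_
      show H90.normAut Q g hg.2 ∈ A
      rw [hne]
      exact hs.inner Q hH (mem_autInducedBy.2 ⟨g, hg.1, hg.2, rfl⟩)
    haveI := finite_of_le (S := T) (P := R) normalizerIn_le
    have hQR : Q < R := lt_inf_normalizer_of_lt hT0p hQlt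
    have hn'FR : FR p F T H Q (autMap (n' : MulAut Q)) := by
      refine hs.FR_congr (hs.FR_mono (hbig (hcardQ ▸ card_lt_card_of_lt hQR) normalizerIn_le
        ((isMap_of_mem hψ).mono hRX')) hQR.le) fun x hx => ?_
      rw [homFun_mem ψ (hRX hx), autMap_apply _ hx]
      exact (hψe ⟨x, hx⟩).symm
    -- the part inducing maps of `D`
    haveI := hs.finite_T
    haveI := finite_mulAut_of_le hQS
    let K : Subgroup A :=
      { carrier := {α | FR p F T H Q (autMap (α : MulAut Q))}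
        one_mem' := hs.FR_congr (hs.FR_of_inD (fun E' _ => isMap_id E' hQT)) fun x hx =>
          (FusionSys.autMap_one hx).trans rfl
        mul_mem' := fun {a b} ha hb => hs.FR_congr (hs.FR_comp hb ha fun x hx => autMap_mem _ hx)
          fun x hx => autMap_mul _ _ hx
        inv_mem' := fun {a} ha => hs.FR_inv (isIso_autMap hQS (hs.le_autF Q hH a.2))
          (fun x hx => S5114.inv_autMap_apply _ hx) ha }
    have hsy := hs.isSylowIn_autI hH hQn
    have h1 : ((hsy.toSylow : Sylow p A) : Subgroup A) ≤ K := fun α hα => by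
      rw [hsy.coe_toSylow] at hα
      obtain ⟨s, hsS, hsn, hse⟩ := mem_autInducedBy.1 hα.2
      exact hs.FR_congr (hs.FR_conj hQT hsS) fun x hx => by
        rw [show ((α : A) : MulAut Q) = conjAut hsn from hse]
        exact autMap_conjAut hsn hx
    have h2 : pResidual p A ≤ K := Cores.pResidual_le fun α hα => hs.FR_of_inD
      (InD.gen hH (by rwa [Subgroup.orderOf_coe]) α.2)
    have htop : K = ⊤ :=
      top_le_iff.1 ((Fusion.sylow_sup_pResidual hsy.toSylow).ge.trans (sup_le h1 h2))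
    have hmFR : FR p F T H Q (autMap (m : MulAut Q)) :=
      htop.ge (Subgroup.mem_top (⟨(m : MulAut Q), hm⟩ : A))
    refine hs.FR_congr (hs.FR_comp hn'FR hmFR fun x hx => autMap_mem _ hx) fun x hx => ?_
    rw [show γ = (m : MulAut Q) * (n' : MulAut Q) from congrArg Subtype.val hγmn, autMap_mul _ _ hx,
      Function.comp_apply]
  · obtain ⟨x, hxC, hxQ⟩ := hs.exists_extra hQT hQn hH
    obtain ⟨G, hG, hGe⟩ := receptive_extend (receptive_of_isFullyNormalized hs.hS hs.hF hQn)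
      (isIso_autMap hQS hγ) (N := centralizerIn T Q) fun y hy =>
        (isIso_autMap hQS hγ).isMap.inExt_of_centralizes (FusionSys.mem_centralizerIn.2
          ⟨hs.T_le (FusionSys.mem_centralizerIn.1 hy).1, (FusionSys.mem_centralizerIn.1 hy).2⟩)
    have hR : centralizerIn T Q ⊔ Q ≤ T := sup_le centralizerIn_le hQT
    haveI := finite_of_le hR
    have hlt : Q < centralizerIn T Q ⊔ Q :=
      lt_of_le_of_ne le_sup_right fun h => hxQ (h ▸ Subgroup.mem_sup_left hxC)
    exact hs.FR_congr (hs.FR_mono (hbig (hcardQ ▸ card_lt_card_of_lt hlt) hR hG) le_sup_right)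
      fun z hz => (hGe z hz).symm

end Setup

end Cfsg.Agent.Signalizer.EBal.GenA
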