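import Cfsg.Agent.Signalizer.EBal.GenA.Good
import Cfsg.Agent.H89.Lift.Sat

/-!
Saturation and weak normality of the generated subsystem.
-/

set_option autoImplicit false
set_option linter.style.haveILetI false
set_option linter.unusedSectionVars false

namespace Cfsg.Agent.Signalizer.EBal.GenA

open Cfsg Cfsg.FusionSystem Cfsg.Agent.FusionSys Cfsg.Agent.H91.CentFocal
open Cfsg.Agent.H91.CentSE (Ctr)
open Cfsg.Agent.H89.Lift (tw tw_apply nSub mem_nSub nSub_le le_nSub inn_conj)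
open Cfsg.Agent.H48 (IsSylowIn)
open Cfsg.Agent.H89 (mem_of_stronglyClosed card_lt_card_of_lt)
open Cfsg.Agent.H89.Gen (InH)
open Cfsg.FusionSystem (centralizerIn normalizerIn)

universe u

variable {Ω : Type u} [Group Ω] {S T : Subgroup Ω} {p : ℕ} {F : FusionSystem S} {H : ∀ Q : Subgroup Ω, Subgroup (MulAut Q)}

namespace Setup

variable (hs : Setup p F T H)
include hs

variable [Finite S] [Fact p.Prime]

/-- Extensions normalize as prescribed. -/
theorem mapsTo_nSub {Q : Subgroup Ω} (hQ : Q ≤ T) {Y Y' : Subgroup (MulAut Q)}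
    (hYI : Inn Q ≤ Y) {x : MulAut Q} {g : Ω → Ω} (hg : IsMap F (nSub (T) Q Y) g)
    (hge : ∀ q ∈ Q, g q = autMap x q) (hx : ∀ y ∈ Y, x * y * x⁻¹ ∈ Y') {n : Ω}
    (hn : n ∈ nSub (T) Q Y) : g n ∈ nSub (T) Q Y' := by
  obtain ⟨hnN, hnY⟩ := mem_nSub.1 hn
  haveI := finite_of_le (hQ.trans hs.T_le)
  have hQN := le_nSub hQ hYI
  have hgn : g n ∈ T :=
    (stronglyClosed_iff.1 hs.hT).2 _ g nSub_le hg n hn
  have hgc : ∀ q ∈ Q, g n * autMap x q * (g n)⁻¹ = autMap x (n * q * n⁻¹) := fun q hq => by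
    rw [← hge q hq, ← hge _ ((Subgroup.mem_normalizer_iff.1 hnN.2 q).1 hq), hg.map_conj hn (hQN hq)]
  have hgnn : g n ∈ Subgroup.normalizer (Q : Set Ω) := mem_normalizer_of_maps fun w hw => by
    rw [← autMap_inv_apply x hw, hgc _ (autMap_mem _ hw)]
    exact autMap_mem _ ((Subgroup.mem_normalizer_iff.1 hnN.2 _).1 (autMap_mem _ hw))
  refine mem_nSub.2 ⟨⟨hgn, hgnn⟩, ?_⟩
  convert hx _ hnY using 1
  refine aut_ext fun w hw => ?_
  rw [autMap_conjAut hgnn hw, conjMap_apply, autMap_mul _ _ hw, autMap_mul _ _ (autMap_mem _ hw),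
    autMap_conjAut hnN.2 (autMap_mem _ hw), conjMap_apply, ← hgc _ (autMap_mem _ hw),
    autMap_inv_apply x hw]

/-- Automorphisms of order prime to `p` normalizing `Y` extend inside the generated system. -/
theorem exists_ext_coprime {Q : Subgroup Ω} (hQ : InH F T Q) (hQn : F.IsFullyNormalized Q)
    {Y : Subgroup (MulAut Q)} (hYI : Inn Q ≤ Y) (hYU : Y ≤ hs.uAut Q) {x : MulAut Q}
    (hx : x ∈ hs.bAut Q) (hxY : ∀ y ∈ Y, x * y * x⁻¹ ∈ Y) (hco : (orderOf x).Coprime p) :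
    ∃ g, IsMap hs.D0 (nSub T Q Y) g ∧ ∀ q ∈ Q, g q = autMap x q := by
  have hQT := hQ.1
  have hQS := hQn.1
  set N := nSub T Q Y with hN
  have hNT : N ≤ T := nSub_le
  have hQN : Q ≤ N := le_nSub hQT hYI
  haveI := finite_of_le hQS
  have hxI : x ∈ H Q := hs.bAut_le_autI hQ hx
  obtain ⟨g, hg, hge⟩ := receptive_extend (receptive_of_isFullyNormalized hs.hS hs.hF hQn)
    (isIso_autMap hQS (hs.le_autF Q hQ hxI)) (N := N) fun n hn => by
      obtain ⟨hnN, hnY⟩ := mem_nSub.1 hn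
      obtain ⟨t, htT, htn, hte⟩ := mem_autInducedBy.1 (hYU (hxY _ hnY))
      refine ⟨hs.T_le hnN.1, hnN.2, t, hs.T_le htT, fun z hz => ?_⟩
      have h := congrArg (fun a => autMap a (autMap x z)) hte
      rw [autMap_conjAut htn (autMap_mem _ hz), autMap_mul _ _ (autMap_mem _ hz),
        ← autMap_mul x⁻¹ x hz, inv_mul_cancel, FusionSys.autMap_one hz, autMap_mul _ _ hz,
        autMap_conjAut hnN.2 hz] at h
      exact h
  replace hg : IsMap F N g := hg.mono le_sup_left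
  have hm : ∀ n ∈ N, g n ∈ N := fun n hn => hs.mapsTo_nSub hQT hYI hg hge hxY hn
  obtain ⟨k, b, hb, hgk, hgkb, hgke⟩ := exists_pPrime_power (p := p) hg hm
  haveI := finite_of_le (hNT.trans hs.T_le)
  haveI := finite_mulAut_of_le (hNT.trans hs.T_le)
  obtain ⟨α, hα, hαe⟩ :=
    (isIso_of_mapsTo hgk fun n hn => iterate_mem hm k hn).exists_aut
  have hgx : ∀ q ∈ Q, g q = autMap x q := hge
  have hαQ : ∀ q ∈ Q, autMap α q = autMap x q := fun q hq => by
    rw [hαe q (hQN hq), hgke q (hQN hq) (orderOf x) hco, hge q hq]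
    rw [autMap_pow x hgx _ hq, pow_orderOf_eq_one, FusionSys.autMap_one hq]
  have hαb : α ^ b = 1 := aut_ext fun n hn => by
    rw [← autMap_pow α (fun y hy => (hαe y hy).symm) b hn, hgkb n hn, FusionSys.autMap_one hn]
  have hαco : (orderOf α).Coprime p := hb.coprime_dvd_left (orderOf_dvd_of_pow_eq_one hαb)
  have hαI : α ∈ H N := hs.ext Q N hQ hQn hQN
    (fun n hn => (mem_nSub.1 hn).1) α x hα hαco hxI hαQ
  exact ⟨autMap α, hs.isMap_D0.2 (InD.gen (hs.inH_up hQ hQN hNT) hαco hαI), hαQ⟩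

/-- Elements normalizing a tame intersection extend. -/
theorem exists_ext_tame {Q : Subgroup Ω} (hQ : InH F T Q) (hQn : F.IsFullyNormalized Q)
    [Finite (hs.bAut Q)] (P P' : Sylow p (hs.bAut Q))
    (hP : (P : Subgroup (hs.bAut Q)) = (hs.uAut Q).subgroupOf (hs.bAut Q))
    (htame : Fusion.IsTame P P')
    (hI : Inn Q ≤ ((P : Subgroup (hs.bAut Q)) ⊓ (P' : Subgroup (hs.bAut Q))).map (hs.bAut Q).subtype)
    {x : hs.bAut Q}
    (hx : x ∈ Subgroup.normalizer (((P : Subgroup (hs.bAut Q)) ⊓ (P' : Subgroup (hs.bAut Q)) :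
      Subgroup (hs.bAut Q)) : Set (hs.bAut Q))) :
    ∃ g, IsMap hs.D0 (nSub (T) Q
      (((P : Subgroup (hs.bAut Q)) ⊓ (P' : Subgroup (hs.bAut Q))).map (hs.bAut Q).subtype)) g ∧
      ∀ q ∈ Q, g q = autMap (x : MulAut Q) q := by
  set Y0 : Subgroup (hs.bAut Q) := (P : Subgroup (hs.bAut Q)) ⊓ (P' : Subgroup (hs.bAut Q)) with hY0
  set Y := Y0.map (hs.bAut Q).subtype with hY
  set N := Subgroup.normalizer (Y0 : Set (hs.bAut Q)) with hN
  have hYU : Y ≤ hs.uAut Q := by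
    rintro _ ⟨y, hy, rfl⟩
    exact (hP ▸ hy.1 : y ∈ (hs.uAut Q).subgroupOf (hs.bAut Q))
  have hnorm : ∀ x ∈ N, ∀ y ∈ Y, ((x : hs.bAut Q) : MulAut Q) * y * (x : MulAut Q)⁻¹ ∈ Y := by
    rintro x hx _ ⟨y, hy, rfl⟩
    exact ⟨x * y * x⁻¹, (Subgroup.mem_normalizer_iff.1 hx y).1 hy, rfl⟩
  have hQT := hQ.1
  have hQN := le_nSub hQT hI
  let M : Submonoid N :=
    { carrier := {x | ∃ g, IsMap hs.D0 (nSub (T) Q Y) g ∧
        ∀ q ∈ Q, g q = autMap ((x : hs.bAut Q) : MulAut Q) q}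
      one_mem' := ⟨id, isMap_id _ nSub_le, fun q hq => (FusionSys.autMap_one hq).symm⟩
      mul_mem' := by
        rintro x y ⟨g, hg, hge⟩ ⟨h, hh, hhe⟩
        refine ⟨g ∘ h, hh.comp hg fun n hn =>
          hs.mapsTo_nSub hQT hI (isMap_of_sub hs.D0_sub hh) hhe (hnorm _ y.2) hn, fun q hq => ?_⟩
        rw [Function.comp_apply, hhe q hq, hge _ (autMap_mem _ hq)]
        exact (autMap_mul _ _ hq).symm }
  let K : Subgroup N :=
    { M with
      inv_mem' := fun {x} hx => by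
        show x⁻¹ ∈ M
        rw [← mul_one x⁻¹, ← pow_orderOf_eq_one x, ← Nat.sub_add_cancel (orderOf_pos x), pow_succ',
          inv_mul_cancel_left]
        exact M.pow_mem hx _ }
  have hsy : IsSylowIn p ((P : Subgroup (hs.bAut Q)) ⊓ N) N :=
    ⟨inf_le_right, P.isPGroup'.to_le inf_le_left, htame.1⟩
  suffices h : K = ⊤ from h.ge (Subgroup.mem_top (⟨x, hx⟩ : N))
  refine top_le_iff.1 ((Fusion.sylow_sup_pResidual hsy.toSylow).ge.trans (sup_le (fun y hy => ?_) ?_))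
  · rw [hsy.coe_toSylow] at hy
    have hyU : ((y : hs.bAut Q) : MulAut Q) ∈ hs.uAut Q := by
      have h := (Subgroup.mem_subgroupOf.1 hy).1
      rw [hP] at h
      exact h
    obtain ⟨t, htT, htn, hte⟩ := mem_autInducedBy.1 hyU
    exact ⟨conjMap t, isMap_conj _ nSub_le htT, fun q hq => by rw [hte, autMap_conjAut htn hq]⟩
  · refine Cores.pResidual_le fun y hy => ?_
    obtain ⟨g, hg, hge⟩ := hs.exists_ext_coprime hQ hQn hI hYU (y : hs.bAut Q).2 (hnorm _ y.2)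
      (by rwa [Subgroup.orderOf_coe, Subgroup.orderOf_coe])
    exact ⟨g, hg, hge⟩

/-- Conjugations connected inside the candidate extend. -/
theorem exists_ext_conn {Q : Subgroup Ω} (hQ : InH F T Q) (hQn : F.IsFullyNormalized Q)
    [Finite (hs.bAut Q)] (P : Sylow p (hs.bAut Q))
    (hP : (P : Subgroup (hs.bAut Q)) = (hs.uAut Q).subgroupOf (hs.bAut Q))
    {A : Set (hs.bAut Q)} {g : hs.bAut Q} (h : Fusion.Conn P A g) :
    ∀ Y : Subgroup (MulAut Q), Inn Q ≤ Y → Y ≤ hs.uAut Q →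
      (∀ y : hs.bAut Q, (y : MulAut Q) ∈ Y → y ∈ A) →
      ∃ f, IsMap hs.D0 (nSub (T) Q Y) f ∧
        ∀ q ∈ Q, f q = autMap ((g : MulAut Q))⁻¹ q := by
  have hQT := hQ.1
  induction h with
  | refl A =>
    exact fun Y _ _ _ => ⟨id, isMap_id _ nSub_le, fun q hq => by
      rw [Subgroup.coe_one, inv_one, FusionSys.autMap_one hq, id]⟩
  | step A g x P' htame hA hx _ ih =>
    intro Y hYI hYU hYA
    set Y0 : Subgroup (hs.bAut Q) := (P : Subgroup (hs.bAut Q)) ⊓ (P' : Subgroup (hs.bAut Q)) with hY0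
    have hYle : Y ≤ Y0.map (hs.bAut Q).subtype := fun y hy =>
      ⟨⟨y, hs.uAut_le_bAut (hYU hy)⟩, hA (hYA _ hy), rfl⟩
    obtain ⟨f, hf, hfe⟩ := hs.exists_ext_tame hQ hQn P P' hP htame (hYI.trans hYle)
      (inv_mem hx)
    set Y1 := Y.comap (MulAut.conj (x : MulAut Q)).toMonoidHom with hY1
    have hY1U : Y1 ≤ hs.uAut Q := fun y hy => by
      obtain ⟨z, hz, hze⟩ := hYle hy
      have h1 : ((x⁻¹ * z * x : hs.bAut Q) : MulAut Q) = y := by
        have hze' : (z : MulAut Q) = x * y * (x : MulAut Q)⁻¹ := hze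
        simp only [Subgroup.coe_mul, Subgroup.coe_inv, hze']
        group
      have h2 := ((Subgroup.mem_normalizer_iff.1 (inv_mem hx) z).1 hz).1
      rw [inv_inv, hP] at h2
      exact h1 ▸ h2
    obtain ⟨f1, hf1, hf1e⟩ := ih Y1 (inn_conj hYI _) hY1U fun y hy =>
      ⟨x * y * x⁻¹, hYA _ hy, by group⟩
    refine ⟨f1 ∘ f, (hf.mono ?_).comp hf1 fun n hn => hs.mapsTo_nSub hQT hYI
      ((isMap_of_sub hs.D0_sub hf).mono ?_) hfe (fun y hy => ?_) hn, fun q hq => ?_⟩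
    · exact Subgroup.map_mono (Subgroup.comap_mono hYle)
    · exact Subgroup.map_mono (Subgroup.comap_mono hYle)
    · show (x : MulAut Q) * (((x⁻¹ : hs.bAut Q) : MulAut Q) * y * ((x⁻¹ : hs.bAut Q) : MulAut Q)⁻¹) *
        (x : MulAut Q)⁻¹ ∈ Y
      simpa [mul_assoc] using hy
    · rw [Function.comp_apply, hfe q hq, hf1e _ (autMap_mem _ hq), Subgroup.coe_mul,
        _root_.mul_inv_rev, Subgroup.coe_inv, autMap_mul _ _ hq]

/-- The fully normalized members of the class are receptive in the generated subsystem. -/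
theorem isReceptive_D0 {Q : Subgroup Ω} (hQ : InH F T Q) (hQn : F.IsFullyNormalized Q)
    (hL : SatAbove hs.D0 p (Nat.card Q)) (hbig : hs.Above (Nat.card Q)) : hs.D0.IsReceptive Q := by
  haveI := hs.finite_T
  have hQT := hQ.1
  haveI := finite_of_le (hQT.trans hs.T_le)
  haveI := finite_mulAut_of_le (hQT.trans hs.T_le)
  refine receptive_of_extend hQT fun A f N hf hAN hN => ?_
  rcases hQT.eq_or_lt with hQe | hQlt
  · subst Q
    have hAe : A = T := eq_S_of_isConj (isConj_symm hf.isConj)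
    exact ⟨f, hf.isMap.mono (fun x hx => hAe.symm ▸ ((hN x).1 hx).1), fun _ _ => rfl⟩
  obtain ⟨ψ, hψ⟩ := hs.exists_good hQlt hQn hL hf.isConj
  obtain ⟨v, hv, hv1, -⟩ := hψ.2.exists_symm
  obtain ⟨b, hbD, hbe⟩ := (hv.comp hf).exists_aut
  have hb : b ∈ hs.bAut Q := hs.autGroup_le_bAut hQ hQn hL hbig hbD
  have hNN : N ≤ normalizerIn (T) A := fun x hx =>
    ⟨((hN x).1 hx).1, ((hN x).1 hx).2.1⟩
  have hψN := hψ.1.mono hNN
  set M := imgSub ψ N with hM
  have hQM : Q ≤ M := by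
    rw [hψ.2.eq_imgSub]
    exact Subgroup.closure_mono (Set.image_mono hAN)
  have hMT : M ≤ T := hψN.imgSub_le
  set Y := autInducedBy M Q with hY
  have hYI : Inn Q ≤ Y := by
    rw [inn_eq_autInducedBy_self]
    exact autInducedBy_mono hQM
  have hYU : Y ≤ hs.uAut Q := autInducedBy_mono hMT
  have hbY : ∀ y ∈ Y, b * y * b⁻¹ ∈ hs.uAut Q := by
    intro y hy
    obtain ⟨m, hm, hmn, rfl⟩ := mem_autInducedBy.1 hy
    obtain ⟨n, hn, rfl⟩ := hψN.mem_imgSub.1 hm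
    obtain ⟨hnT, hnn, w, hwT, hwe⟩ := (hN n).1 hn
    have hwn : w ∈ Subgroup.normalizer (Q : Set Ω) := mem_normalizer_of_maps fun z hz => by
      obtain ⟨a, ha, rfl⟩ := hf.exists_preimage hz
      rw [← hwe a ha]
      exact hf.mem ((Subgroup.mem_normalizer_iff.1 hnn a).1 ha)
    refine mem_autInducedBy.2 ⟨w, hwT, hwn, aut_ext fun z hz => ?_⟩
    obtain ⟨a, ha, rfl⟩ := hf.exists_preimage hz
    have hψa : ψ a ∈ Q := hψ.2.mem ha
    have hba : autMap b (ψ a) = f a := by rw [hbe _ hψa, Function.comp_apply, hv1 a ha]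
    have hna := (Subgroup.mem_normalizer_iff.1 hnn a).1 ha
    rw [autMap_conjAut hwn (hf.mem ha), conjMap_apply, ← hba, autMap_mul _ _ (autMap_mem _ hψa),
      S5114.inv_autMap_apply b hψa, autMap_mul _ _ hψa, autMap_conjAut hmn hψa, conjMap_apply,
      ← hψN.map_conj hn (hAN ha), hbe _ (hψ.2.mem hna), Function.comp_apply, hv1 _ hna, hwe a ha, hba]
  haveI : Finite (hs.bAut Q) := inferInstance
  have hsy := hs.isSylowIn_bAut hQ hQn
  obtain ⟨h, hh, hhe⟩ := hs.exists_ext_conn hQ hQn hsy.toSylow hsy.coe_toSylow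
    (Fusion.alperin hsy.toSylow (A := {y : hs.bAut Q | (y : MulAut Q) ∈ Y})
      (g := (⟨b, hb⟩ : hs.bAut Q)⁻¹) (fun y hy => by
        show y ∈ (hsy.toSylow : Subgroup (hs.bAut Q))
        rw [hsy.coe_toSylow]; exact hYU hy) (by
      rintro _ ⟨y, hy, rfl⟩
      show ((⟨b, hb⟩ : hs.bAut Q)⁻¹)⁻¹ * y * (⟨b, hb⟩ : hs.bAut Q)⁻¹ ∈
        (hsy.toSylow : Subgroup (hs.bAut Q))
      rw [hsy.coe_toSylow]
      show ((((⟨b, hb⟩ : hs.bAut Q)⁻¹)⁻¹ * y * (⟨b, hb⟩ : hs.bAut Q)⁻¹ : hs.bAut Q) : MulAut Q) ∈ hs.uAut Q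
      simpa using hbY _ hy))
    Y hYI hYU fun _ hy => hy
  refine ⟨h ∘ ψ, hψN.comp hh fun n hn => mem_nSub.2 ⟨⟨hψN.mem_S hn, (hψ.mem (hNN hn)).2⟩,
    mem_autInducedBy.2 ⟨ψ n, hψN.mem_imgSub.2 ⟨n, hn, rfl⟩, _, rfl⟩⟩, fun a ha => ?_⟩
  rw [Function.comp_apply, hhe _ (hψ.2.mem ha), Subgroup.coe_inv, inv_inv, hbe _ (hψ.2.mem ha),
    Function.comp_apply, hv1 a ha]

theorem isFullyAutomized_D0 {Q : Subgroup Ω} (hQ : InH F T Q) (hQn : F.IsFullyNormalized Q)
    (hL : SatAbove hs.D0 p (Nat.card Q)) (hbig : hs.Above (Nat.card Q)) :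
    hs.D0.IsFullyAutomized p Q := by
  haveI := hs.finite_T
  have heq : hs.D0.autGroup Q = hs.bAut Q :=
    le_antisymm (hs.autGroup_le_bAut hQ hQn hL hbig) (hs.bAut_le_D0 hQ)
  refine (isFullyAutomized_iff (hs.hS.to_le hs.T_le)).2 ⟨hQ.1, ?_⟩
  rw [heq]
  exact (hs.isSylowIn_bAut hQ hQn).ndvd

variable {a : MulAut (T)}

theorem receptive_transport (ha : a ∈ F.autGroup (T)) {R : Subgroup Ω}
    (hR : R ≤ T) (h : hs.D0.IsReceptive (imgSub (autMap a) R)) :
    hs.D0.IsReceptive R := by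
  haveI := hs.finite_T
  have hb := hs.isMap_aut ha
  have hb' := hs.isMap_aut (inv_mem ha)
  have hinv : ∀ {x : Ω}, x ∈ T → autMap a⁻¹ (autMap a x) = x :=
    fun hx => S5114.inv_autMap_apply a hx
  refine receptive_of_extend hR fun A f N hf hAN hN => ?_
  have hA := hf.source_le
  have hNT : N ≤ T := fun x hx => ((hN x).1 hx).1
  have hfa : IsIso hs.D0 (imgSub (autMap a) A) (imgSub (autMap a) R) (tw a f) := by
    refine ⟨hs.isMap_D0_tw ha hf.isMap, Set.ext fun z => ⟨?_, fun hz => ?_⟩⟩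
    · rintro ⟨w, hw, rfl⟩
      obtain ⟨x, hx, rfl⟩ := (hb.mono hA).mem_imgSub.1 hw
      rw [tw_apply a f (hA hx)]
      exact (hb.mono hR).mem_imgSub.2 ⟨f x, hf.mem hx, rfl⟩
    · obtain ⟨r, hr, rfl⟩ := (hb.mono hR).mem_imgSub.1 hz
      obtain ⟨x, hx, rfl⟩ := hf.exists_preimage hr
      exact ⟨autMap a x, (hb.mono hA).mem_imgSub.2 ⟨x, hx, rfl⟩, tw_apply a f (hA hx)⟩
  obtain ⟨g, hg, hge⟩ := receptive_extend h hfa (N := imgSub (autMap a) N) fun z hz => by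
    obtain ⟨n, hn, rfl⟩ := (hb.mono hNT).mem_imgSub.1 hz
    obtain ⟨hnT, hnn, w, hwT, hwe⟩ := (hN n).1 hn
    haveI := finite_of_le hA
    haveI := finite_of_le (S := T) hfa.source_le
    refine ⟨autMap_mem a hnT, mem_normalizer_of_maps fun u hu => ?_, autMap a w, autMap_mem a hwT,
      fun u hu => ?_⟩
    · obtain ⟨x, hx, rfl⟩ := (hb.mono hA).mem_imgSub.1 hu
      rw [← hb.map_conj hnT (hA hx)]
      exact (hb.mono hA).mem_imgSub.2 ⟨_, (Subgroup.mem_normalizer_iff.1 hnn x).1 hx, rfl⟩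
    · obtain ⟨x, hx, rfl⟩ := (hb.mono hA).mem_imgSub.1 hu
      have hx' := (Subgroup.mem_normalizer_iff.1 hnn x).1 hx
      rw [← hb.map_conj hnT (hA hx), tw_apply a f (hA hx'), tw_apply a f (hA hx), hwe x hx,
        hb.map_conj hwT (hf.isMap.mem_S hx)]
  replace hg := hg.mono (le_sup_left : imgSub (autMap a) N ≤ _)
  have hN' : imgSub (autMap a⁻¹) (imgSub (autMap a) N) = N := by
    rw [← (hb.mono hNT).imgSub_comp, imgSub_congr (f := id) (g := autMap a⁻¹ ∘ autMap a)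
      (fun x hx => hinv (hNT hx))]
    exact ((isIso_id hs.D0 hNT).eq_imgSub).symm
  refine ⟨tw a⁻¹ g, hN' ▸ hs.isMap_D0_tw (inv_mem ha) hg, fun x hx => ?_⟩
  show autMap a⁻¹ (g (autMap a⁻¹⁻¹ x)) = f x
  rw [inv_inv, hge _ ((hb.mono hA).mem_imgSub.2 ⟨x, hx, rfl⟩), tw_apply a f (hA hx),
    hinv (hf.isMap.mem_S hx)]

theorem automized_transport (ha : a ∈ F.autGroup (T)) {R : Subgroup Ω}
    (hR : R ≤ T) (h : hs.D0.IsFullyAutomized p (imgSub (autMap a) R)) :
    hs.D0.IsFullyAutomized p R := by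
  haveI := hs.finite_T
  have hb := hs.isMap_aut ha
  have hb' := hs.isMap_aut (inv_mem ha)
  have hT0p : IsPGroup p (T) := hs.hS.to_le hs.T_le
  refine (isFullyAutomized_iff hT0p).2 ⟨hR, fun hd => ((isFullyAutomized_iff hT0p).1 h).2 ?_⟩
  have hi : IsIso F R (imgSub (autMap a) R) (autMap a) := (hb.mono hR).isIso
  haveI := finite_of_le hi.source_le
  haveI := finite_of_le hi.target_le
  have hA : (hs.D0.autGroup R).map hi.autEquiv.toMonoidHom ≤ hs.D0.autGroup (imgSub (autMap a) R) := by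
    rintro _ ⟨α, hα, rfl⟩
    refine mem_autGroup_of_isMap ((hs.isMap_D0_tw ha (autGroup_set_subgroup hR hα)).congr fun z hz => ?_)
    obtain ⟨x, hx, rfl⟩ := (hb.mono hR).mem_imgSub.1 hz
    rw [tw_apply a _ (hR hx)]
    exact hi.autMap_autEquiv α hx
  have hU : autInducedBy (T) (imgSub (autMap a) R) ≤
      (autInducedBy (T) R).map hi.autEquiv.toMonoidHom := by
    intro u hu
    obtain ⟨t, htT, htn, rfl⟩ := mem_autInducedBy.1 hu
    obtain ⟨s, hsT, rfl⟩ : ∃ s ∈ T, autMap a s = t :=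
      ⟨_, autMap_mem _ htT, autMap_inv_apply a htT⟩
    have hsn : s ∈ Subgroup.normalizer (R : Set Ω) := mem_normalizer_of_maps fun x hx => by
      have h1 := (Subgroup.mem_normalizer_iff.1 htn _).1 ((hb.mono hR).mem_imgSub.2 ⟨x, hx, rfl⟩)
      rw [← hb.map_conj hsT (hR hx)] at h1
      obtain ⟨y, hy, hye⟩ := (hb.mono hR).mem_imgSub.1 h1
      rwa [← hb.injOn (hR hy) (mul_mem (mul_mem hsT (hR hx)) (inv_mem hsT)) hye]
    refine ⟨conjAut hsn, mem_autInducedBy.2 ⟨s, hsT, hsn, rfl⟩, aut_ext fun z hz => ?_⟩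
    obtain ⟨x, hx, rfl⟩ := (hb.mono hR).mem_imgSub.1 hz
    show autMap (hi.autEquiv (conjAut hsn)) (autMap a x) = _
    rw [hi.autMap_autEquiv _ hx, autMap_conjAut hsn hx, conjMap_apply, autMap_conjAut htn hz,
      conjMap_apply, hb.map_conj hsT (hR hx)]
  rw [← Subgroup.relIndex_map_map_of_injective _ _ (f := hi.autEquiv.toMonoidHom)
    hi.autEquiv.injective] at hd
  refine (hd.trans (Subgroup.relIndex_dvd_of_le_left _ hU)).trans ?_
  rw [← Subgroup.relIndex_mul_relIndex _ _ _ (hU.trans (Subgroup.map_mono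
    (autInducedBy_le_autGroup hs.D0 hR))) hA]
  exact dvd_mul_right _ _

/-- A conjugate in the lifted system carried to a fully normalized one by an automorphism of `T`. -/
theorem exists_rep {P : Subgroup Ω} (hP : P ≤ T) :
    ∃ R, hs.D0.IsConj P R ∧ ∃ a ∈ F.autGroup (T),
      F.IsFullyNormalized (imgSub (autMap a) R) := by
  obtain ⟨Q, hQ, hQn⟩ := exists_isFullyNormalized F (hP.trans hs.T_le)
  obtain ⟨f, hf⟩ := isConj_iff.1 hQ
  obtain ⟨a, ha, d, hd, hde⟩ := hs.frattini hP hf.isMap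
  have hdm := hs.isMap_D0.2 hd
  refine ⟨imgSub d P, hdm.isIso.isConj, a, ha, ?_⟩
  rwa [← hdm.imgSub_comp, imgSub_congr (f := f) (g := autMap a ∘ d) fun x hx => (hde x hx).symm,
    ← hf.eq_imgSub]

theorem inH_conj {P R : Subgroup Ω} (h : hs.D0.IsConj P R) (hP : InH F T P) : InH F T R := by
  obtain ⟨f, hf⟩ := isConj_iff.1 h
  exact hs.inH_map hP (hs.isIso_D0 hf)

/-- Both statements proved by induction on the index in `T`. -/
theorem sat_aux : ∀ P : Subgroup Ω, P ≤ T →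
    (∃ Q, hs.D0.IsConj P Q ∧ hs.D0.IsFullyAutomized p Q ∧ hs.D0.IsReceptive Q) ∧
      (InH F T P → hs.D0.autGroup P ≤ H P) := by
  haveI := hs.finite_T
  have hT0p : IsPGroup p T := hs.hS.to_le hs.T_le
  suffices H' : ∀ (k : ℕ) (P : Subgroup Ω), P ≤ T → Nat.card T ≤ k + Nat.card P →
      (∃ Q, hs.D0.IsConj P Q ∧ hs.D0.IsFullyAutomized p Q ∧ hs.D0.IsReceptive Q) ∧
        (InH F T P → hs.D0.autGroup P ≤ H P) from
    fun P hP => H' (Nat.card T) P hP (Nat.le_add_right _ _)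
  intro k P hP hk
  induction k using Nat.strong_induction_on generalizing P with
  | _ k ih =>
  have hrec : ∀ R : Subgroup Ω, R ≤ T → Nat.card P < Nat.card R →
      (∃ Q, hs.D0.IsConj R Q ∧ hs.D0.IsFullyAutomized p Q ∧ hs.D0.IsReceptive Q) ∧
        (InH F T R → hs.D0.autGroup R ≤ H R) := fun R hR hlt => ih (Nat.card T - Nat.card R)
    (by
      have h : Nat.card R ≤ Nat.card T := Subgroup.card_le_of_le hR
      omega) R hR (by omega)
  have hL : SatAbove hs.D0 p (Nat.card P) := fun R hR hlt => (hrec R hR hlt).1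
  have hbig : hs.Above (Nat.card P) := fun W hW hlt => (hrec W hW.1 hlt).2 hW
  obtain ⟨R0, hR0, a, ha, hQn⟩ := hs.exists_rep hP
  have hR0T := le_of_isConj_right hR0
  have hi : IsIso F R0 (imgSub (autMap a) R0) (autMap a) := ((hs.isMap_aut ha).mono hR0T).isIso
  by_cases hPH : InH F T P
  · have hQ := (hs.inH_iso hi).1 (hs.inH_conj hR0 hPH)
    have hcard : Nat.card (imgSub (autMap a) R0) = Nat.card P :=
      hi.card_eq.symm.trans (card_eq_of_isConj hR0).symm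
    refine ⟨⟨R0, hR0, hs.automized_transport ha hR0T (hs.isFullyAutomized_D0 hQ hQn (hcard ▸ hL)
        (hcard ▸ hbig)),
      hs.receptive_transport ha hR0T (hs.isReceptive_D0 hQ hQn (hcard ▸ hL) (hcard ▸ hbig))⟩,
      fun _ α hα => ?_⟩
    obtain ⟨c, hc⟩ := isConj_iff.1 hR0
    have hα0 := hc.autEquiv_mem_autGroup hα
    set β := hi.autEquiv (hc.autEquiv α) with hβ
    have hβD : β ∈ hs.D0.autGroup (imgSub (autMap a) R0) := by
      refine mem_autGroup_of_isMap ((hs.isMap_D0_tw ha (autGroup_set_subgroup hR0T hα0)).congr fun z hz => ?_)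
      obtain ⟨x, hx, rfl⟩ := ((hs.isMap_aut ha).mono hR0T).mem_imgSub.1 hz
      rw [tw_apply a _ (hR0T hx), hβ]
      exact hi.autMap_autEquiv _ hx
    have hβH : β ∈ H (imgSub (autMap a) R0) := hs.bAut_le_autI hQ
      (hs.autGroup_le_bAut hQ hQn (hcard ▸ hL) (hcard ▸ hbig) hβD)
    have hcomp := (hs.isIso_D0 hc).comp hi
    obtain ⟨v, hv, hvc, -⟩ := hcomp.exists_symm
    have h1 := hs.transport _ _ _ hQ hv β hβH
    convert h1 using 1
    refine aut_ext fun x hx => ?_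
    have h2 := hv.autMap_autEquiv β (hcomp.mem hx)
    rw [hvc x hx] at h2
    rw [h2, hβ, Function.comp_apply, hi.autMap_autEquiv _ (hc.mem hx), hc.autMap_autEquiv α hx]
    exact (hvc _ (autMap_mem α hx)).symm
  refine ⟨?_, fun h => absurd h hPH⟩
  have hout : ∀ Q, hs.D0.IsConj Q P → ¬ InH F T Q := fun Q hQ h => hPH (hs.inH_conj hQ h)
  refine exists_automized_receptive hT0p hP hL (fun E' hE' => le_iff_isMap.2 fun A f hf =>
      hs.isMap_D0.1 hf E' fun Q α hQ hα hi' => hE' Q _ (hs.hasGens_D0 Q α hQ hα hi')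
        fun hc => hout Q hc hQ)
    (fun Q hQ => lt_of_le_of_ne (le_of_isConj_left hQ) fun h => hout Q hQ (h ▸ hs.inH_T)) ?_
  intro P' hPP' hP'n hgood
  refine lt_of_le_of_ne (le_kSub hT0p hP'n.1) fun he => ?_
  have hcen : ∀ Q, hs.D0.IsConj P' Q → centralizerIn T Q ≤ Q := fun Q hQ x hx => by
    obtain ⟨ψ, hψ⟩ := hgood Q (isConj_symm hQ)
    have hQN : Q ≤ normalizerIn T Q := le_normalizerIn_self hψ.2.source_le
    have hxN := centralizerIn_le_normalizerIn hx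
    have h1 : ψ x ∈ P' := he ▸ centralizerIn_le_kSub
      (hψ.2.mem_centralizerIn_of_extends hψ.1 hQN (fun _ _ => rfl) hxN hx)
    obtain ⟨y, hy, hyx⟩ := hψ.2.exists_preimage h1
    obtain rfl : y = x := hψ.1.injOn (hQN hy) hxN hyx
    exact hy
  have hPR : hs.D0.IsConj P' R0 := isConj_trans (isConj_symm hPP') hR0
  have hQT : imgSub (autMap a) R0 ≤ T := target_le_of_closed hs.hT hR0T hi
  have hQH : ¬ InH F T (imgSub (autMap a) R0) := fun h =>
    hout R0 (isConj_symm hR0) ((hs.inH_iso hi).2 h)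
  obtain ⟨x, hxC, hxQ⟩ := hs.exists_extra hQT hQn hQH
  obtain ⟨hxT, hxc⟩ := FusionSys.mem_centralizerIn.1 hxC
  obtain ⟨y, hyT, rfl⟩ : ∃ y ∈ T, autMap a y = x :=
    ⟨_, autMap_mem _ hxT, autMap_inv_apply a hxT⟩
  have ham := hs.isMap_aut ha
  refine hxQ (hi.mem (hcen R0 hPR (FusionSys.mem_centralizerIn.2 ⟨hyT, fun r hr => ?_⟩)))
  refine ham.injOn (mul_mem (hR0T hr) hyT) (mul_mem hyT (hR0T hr)) ?_
  rw [ham.map_mul (hR0T hr) hyT, ham.map_mul hyT (hR0T hr)]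
  exact hxc _ (hi.mem hr)

/-- The generated subsystem is saturated. -/
theorem isSaturated_D0 : hs.D0.IsSaturated p := fun P hP => (hs.sat_aux P hP).1

/-- Its automorphism groups on the class lie in the family. -/
theorem autGroup_D0_le {Q : Subgroup Ω} (hQ : InH F T Q) : hs.D0.autGroup Q ≤ H Q :=
  (hs.sat_aux Q hQ.1).2 hQ

/-- The generated subsystem is weakly normal. -/
theorem isWeaklyNormal_D0 : hs.D0.IsWeaklyNormalIn F p := by
  refine ⟨hs.isSaturated_D0, hs.hF, hs.D0_sub, hs.hT, fun P hP φ hφ a ha => ?_, fun P hP φ hφ => ?_⟩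
  · have ham := hs.isMap_aut ha
    have hm := hs.isMap_D0_tw ha (isMap_of_mem hφ)
    have himg : (P.subgroupOf (T)).map
        ((T).subtype.comp a.toMonoidHom) = imgSub (autMap a) P := by
      ext z
      constructor
      · rintro ⟨w, hw, rfl⟩
        exact (ham.mono hP).mem_imgSub.2 ⟨w, hw, autMap_coe a w⟩
      · intro hz
        obtain ⟨x, hx, rfl⟩ := (ham.mono hP).mem_imgSub.1 hz
        exact ⟨⟨x, hP hx⟩, hx, (autMap_apply a (hP hx)).symm⟩
    rw [← himg] at hm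
    obtain ⟨χ, hχ, hχe⟩ := hm
    refine ⟨χ, hχ, fun x hx hax => ?_⟩
    rw [hχe ⟨_, hax⟩]
    show tw a (homFun φ) ((a ⟨x, hP x.2⟩ : T) : Ω) = _
    rw [← autMap_apply a hx, ← autMap_apply a (hP x.2), tw_apply a _ (hP x.2), homFun_coe φ x]
  · obtain ⟨a, ha, d, hd, hde⟩ := hs.frattini hP (isMap_of_mem hφ)
    obtain ⟨ψ, hψ, hψe⟩ := hs.isMap_D0.2 hd
    refine ⟨a, ha, ψ, hψ, fun x hx => ?_⟩
    rw [← homFun_coe φ x, hde x x.2, ← autMap_apply a hx, hψe x]

end Setup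

end Cfsg.Agent.Signalizer.EBal.GenA
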