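import Cfsg.Agent.H89.Gen.Setup
import Cfsg.Agent.H89.Extend
import Cfsg.Agent.H89.Lift.Sub
import Cfsg.Agent.H91.CentSE.Good

/-!
The subsystem over a strongly closed subgroup `T` generated by the elements of order prime to `p` of a
given invariant family of automorphism groups on self-centralizing subgroups.
-/

set_option autoImplicit false
set_option linter.style.haveILetI false
set_option linter.unusedSectionVars false

namespace Cfsg.Agent.Signalizer.EBal.GenA

open Cfsg Cfsg.FusionSystem Cfsg.Agent.FusionSys Cfsg.Agent.H91.CentFocal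
open Cfsg.Agent.H91.CentSE (Ctr)
open Cfsg.Agent.H89.Lift (tw tw_apply isMap_subSys isMap_restr)
open Cfsg.Agent.H89 (mem_of_stronglyClosed card_lt_card_of_lt)
open Cfsg.Agent.H89.Gen (InH)
open Cfsg.FusionSystem (centralizerIn normalizerIn)

universe u

variable {Ω : Type u} [Group Ω] {S T : Subgroup Ω} {p : ℕ} {F : FusionSystem S} {H : ∀ Q : Subgroup Ω, Subgroup (MulAut Q)}

/-- The hypotheses on the family `H`. -/
structure Setup (p : ℕ) (F : FusionSystem S) (T : Subgroup Ω)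
    (H : ∀ Q : Subgroup Ω, Subgroup (MulAut Q)) : Prop where
  hS : IsPGroup p S
  hF : F.IsSaturated p
  hT : F.StronglyClosed T
  le_autF : ∀ (Q : Subgroup Ω), InH F T Q → H Q ≤ F.autGroup Q
  inner : ∀ (Q : Subgroup Ω), InH F T Q → autInducedBy T Q ≤ H Q
  transport : ∀ (Q R : Subgroup Ω) (f : Ω → Ω), InH F T Q → ∀ (hf : IsIso F Q R f), ∀ α ∈ H Q,
    hf.autEquiv α ∈ H R
  ext : ∀ (Q N : Subgroup Ω), InH F T Q → F.IsFullyNormalized Q → Q ≤ N → N ≤ normalizerIn T Q →
    ∀ (G : MulAut N) (x : MulAut Q), G ∈ F.autGroup N → (orderOf G).Coprime p → x ∈ H Q →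
      (∀ q ∈ Q, autMap G q = autMap x q) → G ∈ H N
  down : ∀ (Q W : Subgroup Ω), InH F T Q → Q ≤ W → W ≤ T → ∀ y ∈ H W, (orderOf y).Coprime p →
    ∀ x : MulAut Q, (∀ q ∈ Q, autMap x q = autMap y q) → x ∈ H Q
  focal : ∀ (Q : Subgroup Ω), InH F T Q → F.IsFullyNormalized Q →
    (pResidual p (H Q)).map (H Q).subtype ⊓ autInducedBy S Q ≤ autInducedBy T Q

/-- `E'` contains the generating automorphisms. -/
def HasGens (p : ℕ) (F : FusionSystem S) (T : Subgroup Ω)
    (H : ∀ Q : Subgroup Ω, Subgroup (MulAut Q)) (E' : FusionSystem T) : Prop :=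
  ∀ (Q : Subgroup Ω) (α : MulAut Q), InH F T Q → (orderOf α).Coprime p →
    α ∈ H Q → IsMap E' Q (autMap α)

/-- The maps lying in every system with the generating automorphisms. -/
def InD (p : ℕ) (F : FusionSystem S) (T : Subgroup Ω)
    (H : ∀ Q : Subgroup Ω, Subgroup (MulAut Q)) (P : Subgroup Ω) (f : Ω → Ω) : Prop :=
  ∀ E' : FusionSystem T, HasGens p F T H E' → IsMap E' P f

theorem InD.congr {P : Subgroup Ω} {f g : Ω → Ω} (h : InD p F T H P f)
    (he : ∀ x ∈ P, g x = f x) : InD p F T H P g := fun E' hE' => (h E' hE').congr he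

theorem InD.mono {P R : Subgroup Ω} {f : Ω → Ω} (h : InD p F T H R f) (hle : P ≤ R) :
    InD p F T H P f := fun E' hE' => (h E' hE').mono hle

theorem InD.comp {P Q : Subgroup Ω} {f g : Ω → Ω} (hf : InD p F T H P f)
    (hg : InD p F T H Q g) (hm : ∀ x ∈ P, f x ∈ Q) : InD p F T H P (g ∘ f) :=
  fun E' hE' => (hf E' hE').comp (hg E' hE') hm

theorem InD.conj {P : Subgroup Ω} (hP : P ≤ T) {a : Ω} (ha : a ∈ T) :
    InD p F T H P (conjMap a) :=
  fun E' _ => isMap_conj E' hP ha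

theorem InD.gen {Q : Subgroup Ω} {α : MulAut Q} (hQ : InH F T Q) (hα : (orderOf α).Coprime p)
    (hi : α ∈ H Q) : InD p F T H Q (autMap α) :=
  fun _ hE' => hE' Q α hQ hα hi

namespace Setup

variable (hs : Setup p F T H)
include hs

theorem T_le : T ≤ S := hs.hT.1

theorem T_conj {s t : Ω} (hs' : s ∈ S) (ht : t ∈ T) : s * t * s⁻¹ ∈ T :=
  conj_mem_closed hs.hT hs' ht

/-- The maps of `F` between subgroups of `T`. -/
def base : FusionSystem T := H90.PPC.restr F hs.hT.1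

theorem isMap_F {P : Subgroup Ω} {f : Ω → Ω} (h : IsMap hs.base P f) : IsMap F P f :=
  ((isMap_restr hs.hT.1).1 h).1

theorem isMap_base {P : Subgroup Ω} {f : Ω → Ω} (hP : P ≤ T) (h : IsMap F P f) : IsMap hs.base P f :=
  (isMap_restr hs.hT.1).2 ⟨h, hP, fun x hx => mem_of_stronglyClosed hs.hT h hx (hP hx)⟩

theorem hasGens_base : HasGens p F T H hs.base := fun Q _ hQ _ h =>
  hs.isMap_base hQ.1 ((mem_autGroup_iff (hQ.1.trans hs.hT.1)).1 (hs.le_autF Q hQ h))

theorem ind_of_inD {P : Subgroup Ω} {f : Ω → Ω} (h : InD p F T H P f) : IsMap hs.base P f :=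
  h _ hs.hasGens_base

theorem inD_inv {P Q : Subgroup Ω} {f g : Ω → Ω} (hf : IsIso F P Q f)
    (hgf : ∀ x ∈ P, g (f x) = x) (h : InD p F T H P f) : InD p F T H Q g := by
  intro E' hE'
  obtain ⟨g', hg', hg'f⟩ := (h E' hE').exists_inv
  rw [← hf.eq_imgSub] at hg'
  refine hg'.congr fun y hy => ?_
  obtain ⟨x, hx, rfl⟩ := hf.exists_preimage hy
  rw [hgf x hx, hg'f x hx]

/-- The generated subsystem. -/
noncomputable def D0 : FusionSystem T :=
  FusionSys.subSys hs.base (InD p F T H) (fun _ _ _ h he => h.congr he)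
    (fun _ _ hP ha => InD.conj hP ha) (fun _ _ _ _ _ _ hm h1 h2 => h1.comp h2 hm)
    (fun _ _ _ _ hf _ hgf h => hs.inD_inv ⟨hs.isMap_F hf.isMap, hf.image_eq⟩ hgf h)

theorem isMap_D0 {P : Subgroup Ω} {f : Ω → Ω} : IsMap hs.D0 P f ↔ InD p F T H P f := by
  refine isMap_subSys.trans ?_
  exact ⟨fun h => h.2, fun h => ⟨hs.ind_of_inD h, h⟩⟩

theorem D0_le : hs.D0.IsSubsystemOf hs.base :=
  isSubsystemOf_iff_isMap.2 fun _ _ h => hs.ind_of_inD (hs.isMap_D0.1 h)

theorem D0_sub : hs.D0.IsSubsystemOf F :=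
  isSubsystemOf_iff_isMap.2 fun _ _ h => hs.isMap_F (hs.ind_of_inD (hs.isMap_D0.1 h))

theorem isIso_D0 {P Q : Subgroup Ω} {f : Ω → Ω} (h : IsIso hs.D0 P Q f) : IsIso F P Q f :=
  isIso_of_sub hs.D0_sub h

theorem hasGens_D0 : HasGens p F T H hs.D0 := fun _ _ h1 h2 h3 =>
  hs.isMap_D0.2 (InD.gen h1 h2 h3)

variable [Finite S] [Fact p.Prime]

theorem finite_T : Finite T := finite_of_le hs.T_le

theorem inH_T : InH F T T := by
  haveI := hs.finite_T
  refine ⟨le_rfl, fun R hR c hc => ?_⟩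
  obtain ⟨f, hf⟩ := isConj_iff.1 hR
  have hRT := target_le_of_closed hs.hT le_rfl hf
  rw [Subgroup.eq_of_le_of_card_ge hRT hf.card_eq.le]
  exact centralizerIn_le hc

theorem inH_up {P R : Subgroup Ω} (hP : InH F T P) (hle : P ≤ R) (hR : R ≤ T) : InH F T R :=
  ⟨hR, hP.2.mono hle⟩

/-- The class is invariant. -/
theorem inH_map {P Q : Subgroup Ω} {f : Ω → Ω} (hP : InH F T P) (hf : IsIso F P Q f) :
    InH F T Q :=
  ⟨target_le_of_closed hs.hT hP.1 hf, hP.2.of_isConj hf.isConj⟩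

theorem inH_iso {P R : Subgroup Ω} {f : Ω → Ω} (hf : IsIso F P R f) :
    InH F T P ↔ InH F T R := by
  refine ⟨fun h => hs.inH_map h hf, fun h => ?_⟩
  obtain ⟨v, hv, -, -⟩ := hf.exists_symm
  exact hs.inH_map h hv

/-! ### Invariance under the automorphisms of `T` -/

variable {a : MulAut T}

theorem isMap_aut (ha : a ∈ F.autGroup T) : IsMap F T (autMap a) :=
  (mem_autGroup_iff hs.T_le).1 ha

theorem inD_tw (ha : a ∈ F.autGroup T) {P : Subgroup Ω} {f : Ω → Ω}
    (h : InD p F T H P f) : InD p F T H (imgSub (autMap a) P) (tw a f) := by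
  intro E' hE'
  have hb := hs.isMap_aut ha
  let E'' : FusionSystem T := FusionSys.subSys hs.base
    (fun P f => P ≤ T → (∀ x ∈ P, f x ∈ T) → IsMap E' (imgSub (autMap a) P) (tw a f))
    (by
      intro P f g hf he hP hm
      refine (hf hP fun x hx => he x hx ▸ hm x hx).congr fun y hy => ?_
      obtain ⟨x, hx, rfl⟩ := (hb.mono hP).mem_imgSub.1 hy
      rw [tw_apply a g (hP hx), tw_apply a f (hP hx), he x hx])
    (by
      intro P b _ hb' hP _
      refine (isMap_conj E' (fun y hy => ?_) (autMap_mem a hb')).congr fun y hy => ?_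
      · obtain ⟨x, hx, rfl⟩ := (hb.mono hP).mem_imgSub.1 hy
        exact autMap_mem _ (hP hx)
      · obtain ⟨x, hx, rfl⟩ := (hb.mono hP).mem_imgSub.1 hy
        rw [tw_apply a _ (hP hx), conjMap_apply, conjMap_apply]
        exact hb.map_conj hb' (hP hx))
    (by
      intro P Q f g hfF hgF hPQ hf hg hP _
      have hf' := hf hP fun x hx => hfF.mem_S hx
      have hg' := hg hgF.le fun x hx => hgF.mem_S hx
      refine (hf'.comp hg' fun y hy => ?_).congr fun y hy => ?_
      · obtain ⟨x, hx, rfl⟩ := (hb.mono hP).mem_imgSub.1 hy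
        rw [tw_apply a f (hP hx)]
        exact (hb.mono hgF.le).mem_imgSub.2 ⟨_, hPQ x hx, rfl⟩
      · obtain ⟨x, hx, rfl⟩ := (hb.mono hP).mem_imgSub.1 hy
        rw [Function.comp_apply, tw_apply a (g ∘ f) (hP hx), tw_apply a f (hP hx),
          tw_apply a g (hgF.le (hPQ x hx)), Function.comp_apply])
    (by
      intro P Q f g hf hg hgf hΦ hQ _
      have hf' := hΦ hf.source_le fun x hx => hf.isMap.mem_S hx
      obtain ⟨g', hg', hgf'⟩ := hf'.exists_inv
      have hle : imgSub (autMap a) Q ≤ imgSub (tw a f) (imgSub (autMap a) P) := by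
        intro y hy
        obtain ⟨z, hz, rfl⟩ := (hb.mono hQ).mem_imgSub.1 hy
        obtain ⟨x, hx, rfl⟩ := hf.exists_preimage hz
        exact hf'.mem_imgSub.2 ⟨autMap a x,
          (hb.mono hf.source_le).mem_imgSub.2 ⟨x, hx, rfl⟩, tw_apply a f (hf.source_le hx)⟩
      refine (hg'.mono hle).congr fun y hy => ?_
      obtain ⟨z, hz, rfl⟩ := (hb.mono hQ).mem_imgSub.1 hy
      obtain ⟨x, hx, rfl⟩ := hf.exists_preimage hz
      have h1 := hgf' (autMap a x) ((hb.mono hf.source_le).mem_imgSub.2 ⟨x, hx, rfl⟩)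
      rw [tw_apply a f (hf.source_le hx)] at h1
      rw [tw_apply a g (hQ (hf.mem hx)), hgf x hx, h1])
  have hE'' : HasGens p F T H E'' := by
    intro Q α hQ hα hi
    refine isMap_subSys.2 ⟨hs.hasGens_base Q α hQ hα hi, fun hQT _ => ?_⟩
    have hQi : IsIso F Q (imgSub (autMap a) Q) (autMap a) := (hb.mono hQT).isIso
    have he : ∀ y ∈ imgSub (autMap a) Q, tw a (autMap α) y = autMap (hQi.autEquiv α) y := fun y hy => by
      obtain ⟨x, hx, rfl⟩ := (hb.mono hQT).mem_imgSub.1 hy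
      rw [tw_apply a _ (hQT hx), hQi.autMap_autEquiv α hx]
    exact (hE' _ (hQi.autEquiv α) (hs.inH_map hQ hQi) (by rwa [MulEquiv.orderOf_eq])
      (hs.transport _ _ _ hQ hQi α hi)).congr he
  exact (isMap_subSys.1 (h E'' hE'')).2 (hs.ind_of_inD h).le
    fun x hx => (hs.ind_of_inD h).mem_S hx

theorem isMap_D0_tw (ha : a ∈ F.autGroup T) {P : Subgroup Ω} {f : Ω → Ω}
    (h : IsMap hs.D0 P f) : IsMap hs.D0 (imgSub (autMap a) P) (tw a f) :=
  hs.isMap_D0.2 (hs.inD_tw ha (hs.isMap_D0.1 h))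

end Setup

end Cfsg.Agent.Signalizer.EBal.GenA
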